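import Groth.Agent.CAlgUI.ML

/-! Localising at elements acting universally injectively keeps a module Mittag-Leffler. -/

set_option autoImplicit false
set_option backward.isDefEq.respectTransparency false
set_option backward.isDefEq.respectTransparency.types false

universe u

open TensorProduct

namespace Groth.Agent.FlatML

variable {A C : Type u} [CommRing A] [CommRing C] [Algebra A C]

theorem ml_localization {M M' : Type u} [AddCommGroup M] [Module C M] [Module A M] [IsScalarTower A C M]
    [AddCommGroup M'] [Module C M'] [Module A M'] [IsScalarTower A C M'] (W : Submonoid C) (l : M →ₗ[C] M')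
    [IsLocalizedModule W l]
    (hu : ∀ w ∈ W, CAlgX.UniversallyInjective A ((LinearMap.lsmul C M w).restrictScalars A))
    (hM : CAlg.IsMittagLeffler A M) : CAlg.IsMittagLeffler A M' := by
  rw [Groth.Agent.CAlgUI.ml_iff]
  intro ι Q _ _ t ht
  have hinj : ∀ (X : Type u) [AddCommGroup X] [Module A X] (w : C), w ∈ W → ∀ z : M ⊗[A] X, w • z = 0 → z = 0 := by
    intro X _ _ w hw z hz
    refine hu w hw X (a₁ := z) (a₂ := 0) ?_
    rw [map_zero, ← hz]
    clear hz
    induction z using TensorProduct.induction_on with
    | zero => simp
    | add a b ha hb => simp only [map_add, smul_add, ha, hb]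
    | tmul a b => rfl
  obtain ⟨⟨t', s⟩, hs0⟩ := IsLocalizedModule.surj W
    (TensorProduct.AlgebraTensorModule.rTensor A (∀ i, Q i) l) t
  have hs : (s : C) • t = TensorProduct.AlgebraTensorModule.rTensor A (∀ i, Q i) l t' := hs0
  clear hs0
  have ht' : t' = 0 := by
    refine (Groth.Agent.CAlgUI.ml_iff.1 hM) ι Q t' fun i => ?_
    have h2 : TensorProduct.AlgebraTensorModule.rTensor A (Q i) l (TensorProduct.piRightHom A A M Q t' i) = 0 := by
      have h3 : (TensorProduct.AlgebraTensorModule.lTensor C M' (LinearMap.proj (R := A) (φ := Q) i))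
          (TensorProduct.AlgebraTensorModule.rTensor A (∀ i, Q i) l t') = 0 := by
        rw [← hs, map_smul]
        have h4 : (LinearMap.proj (R := A) (φ := Q) i).lTensor M' t = 0 := by
          rw [← Groth.Agent.CAlgUI.piRightHom_eq_proj]; exact ht i
        show (s : C) • (LinearMap.proj (R := A) (φ := Q) i).lTensor M' t = 0
        rw [h4, smul_zero]
      rw [Groth.Agent.CAlgUI.piRightHom_eq_proj, ← h3]
      clear hs h3 ht
      induction t' using TensorProduct.induction_on with
      | zero => simp
      | add a b ha hb => simp only [map_add]; exact congrArg₂ (· + ·) ha hb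
      | tmul a b => rfl
    obtain ⟨⟨w, hw⟩, hk⟩ := (IsLocalizedModule.eq_zero_iff W
      (TensorProduct.AlgebraTensorModule.rTensor A (Q i) l)).1 h2
    exact hinj _ w hw _ hk
  rw [ht', map_zero] at hs
  have hunit := IsLocalizedModule.map_units (TensorProduct.AlgebraTensorModule.rTensor A (∀ i, Q i) l) s
  rw [Module.End.isUnit_iff] at hunit
  exact hunit.injective (hs.trans (smul_zero (A := M' ⊗[A] (∀ i, Q i)) (s : C)).symm)

/-- Universal injectivity transfers along a bijective change of the base ring. -/
theorem universallyInjective_of_bijective {A' L L' : Type u} [CommRing A'] [Algebra A A']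
    (h : Function.Bijective (algebraMap A A')) [AddCommGroup L] [Module A L] [Module A' L] [IsScalarTower A A' L]
    [AddCommGroup L'] [Module A L'] [Module A' L'] [IsScalarTower A A' L'] (u : L →ₗ[A'] L')
    (hu : CAlgX.UniversallyInjective A' u) : CAlgX.UniversallyInjective A (u.restrictScalars A) := by
  intro Q _ _
  let e := RingEquiv.ofBijective (algebraMap A A') h
  letI : Module A' Q := Module.compHom Q e.symm.toRingHom
  haveI : IsScalarTower A A' Q := IsScalarTower.of_algebraMap_smul fun a x => by
    show e.symm (algebraMap A A' a) • x = a • x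
    rw [show algebraMap A A' a = e a from rfl, e.symm_apply_apply]
  haveI : TensorProduct.CompatibleSMul A A' L Q := ⟨fun a' m n => by
    obtain ⟨a, rfl⟩ := h.2 a'
    rw [algebraMap_smul, algebraMap_smul, smul_tmul]⟩
  intro z w hzw
  let η : L ⊗[A] Q → L ⊗[A'] Q := TensorProduct.mapOfCompatibleSMul A' A A' L Q
  let η' : L' ⊗[A] Q → L' ⊗[A'] Q := TensorProduct.mapOfCompatibleSMul A' A A' L' Q
  have hc : ∀ v, u.rTensor Q (η v) = η' ((u.restrictScalars A).rTensor Q v) := fun v => by
    induction v using TensorProduct.induction_on with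
    | zero => simp [η, η']
    | add a b ha hb => simp only [η, η', map_add] at ha hb ⊢; rw [ha, hb]
    | tmul a b => rfl
  exact (TensorProduct.equivOfCompatibleSMul A' A A' L Q).injective (hu Q
    (show u.rTensor Q (η z) = u.rTensor Q (η w) by rw [hc, hc, hzw]))

end Groth.Agent.FlatML
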