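import Groth.Agent.RGLib.Main
import Groth.Agent.RGLib.Consequences
import Groth.Agent.DevEtale.Local

/-! A finite module over a local algebra of a flat family as a localised finite module over a polynomial ring. -/

set_option autoImplicit false
set_option backward.isDefEq.respectTransparency false
set_option backward.isDefEq.respectTransparency.types false
set_option linter.style.haveILetI false

universe u

noncomputable section

open TensorProduct IsLocalRing

namespace Groth.Agent.FlatML

set_option maxHeartbeats 800000 in
theorem exists_spread_model {A B : Type u} [CommRing A] [CommRing B] [IsLocalRing A] [IsLocalRing B] [Algebra A B]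
    [IsLocalHom (algebraMap A B)] [Algebra.EssFiniteType A B]
    (N : Type u) [AddCommGroup N] [Module B N] [Module A N] [IsScalarTower A B N] [Module.Finite B N]
    [Module.Flat A N] :
    ∃ (P : Type u) (_ : CommRing P) (_ : Algebra A P) (_ : Algebra.FiniteType A P) (q : Ideal P) (_ : q.IsPrime)
      (N₀ : Type u) (_ : AddCommGroup N₀) (_ : Module P N₀) (_ : Module A N₀) (_ : IsScalarTower A P N₀)
      (_ : Module.Finite P N₀) (_ : Module P N) (_ : IsScalarTower A P N) (ι : N₀ →ₗ[P] N),
      q.LiesOver (maximalIdeal A) ∧ IsLocalizedModule q.primeCompl ι ∧ FlatCA.FlatAt A q N₀ := by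
  classical
  obtain ⟨n, q, _, φ, hq, hφ⟩ := RGLib.exists_localization_surjection A B
  let P := MvPolynomial (Fin n) A
  let S := Localization.AtPrime q
  letI : Module S N := Module.compHom N φ.toRingHom
  haveI : IsScalarTower A S N := IsScalarTower.of_algebraMap_smul fun r x => by
    show φ (algebraMap A S r) • x = r • x
    rw [φ.commutes, algebraMap_smul]
  letI : Module P N := Module.compHom N (algebraMap P S)
  haveI : IsScalarTower P S N := IsScalarTower.of_algebraMap_smul fun _ _ => rfl
  haveI : IsScalarTower A P N := IsScalarTower.of_algebraMap_smul fun r x => by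
    show algebraMap P S (algebraMap A P r) • x = r • x
    rw [← IsScalarTower.algebraMap_apply, algebraMap_smul]
  letI : Algebra S B := φ.toRingHom.toAlgebra
  haveI : IsScalarTower S B N := IsScalarTower.of_algebraMap_smul fun _ _ => rfl
  haveI : Module.Finite S B := Module.Finite.of_surjective (Algebra.linearMap S B) hφ
  haveI : Module.Finite S N := Module.Finite.trans B N
  obtain ⟨s, hs⟩ := Module.Finite.fg_top (R := S) (M := N)
  let N₀ : Submodule P N := Submodule.span P (s : Set N)
  haveI : Module.Finite P N₀ := Module.Finite.span_of_finite P s.finite_toSet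
  haveI hloc : IsLocalizedModule q.primeCompl N₀.subtype := by
    refine ⟨fun d => ?_, fun y => ?_, fun {a b} h => ⟨1, by rw [Subtype.ext h]⟩⟩
    · rw [Module.End.isUnit_iff]
      obtain ⟨w, hw⟩ := IsLocalization.map_units S d
      have h : ⇑((algebraMap P (Module.End P N)) d) = fun z => (w : S) • z := funext fun z => by
        rw [Module.algebraMap_end_apply, hw, algebraMap_smul]
      rw [h]
      exact MulAction.bijective w
    · have hy : y ∈ Submodule.span S (s : Set N) := hs ▸ trivial
      induction hy using Submodule.span_induction with
      | mem z hz => exact ⟨(⟨z, Submodule.subset_span hz⟩, 1), by rw [one_smul]; rfl⟩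
      | zero => exact ⟨(0, 1), by rw [map_zero, smul_zero]⟩
      | add a b _ _ ha hb =>
        obtain ⟨⟨a', c⟩, ha⟩ := ha
        obtain ⟨⟨b', d⟩, hb⟩ := hb
        refine ⟨(d • a' + c • b', c * d), ?_⟩
        rw [map_add, LinearMap.map_smul_of_tower, LinearMap.map_smul_of_tower, ← ha, ← hb, smul_add, smul_smul,
          smul_smul, mul_comm d c]
      | smul r z _ hz =>
        obtain ⟨⟨z', c⟩, hz⟩ := hz
        obtain ⟨⟨v, w⟩, hvw⟩ := IsLocalization.surj q.primeCompl r
        refine ⟨(v • z', w * c), ?_⟩
        rw [map_smul, ← hz]
        simp only [Submonoid.smul_def, Submonoid.coe_mul]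
        rw [← algebraMap_smul S v, ← algebraMap_smul S ((w : P) * (c : P)), ← algebraMap_smul S (c : P), smul_smul,
          smul_smul, map_mul, ← hvw]
        congr 1
        ring
  refine ⟨P, inferInstance, inferInstance, inferInstance, q, inferInstance, N₀, inferInstance, inferInstance,
    inferInstance, inferInstance, inferInstance, inferInstance, inferInstance, N₀.subtype, ⟨?_⟩, hloc, ?_⟩
  · exact hq.symm
  · exact Module.Flat.of_linearEquiv ((IsLocalizedModule.iso q.primeCompl N₀.subtype).restrictScalars A)

end Groth.Agent.FlatML
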