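import Groth.Agent.FlatML.Free
import Groth.Agent.FlatML.Model
import Groth.Agent.FlatML.Localize
import Groth.Agent.Hensel.EtaleLift
import Groth.Agent.CAlgUI.Projective

/-! Flat finite modules over essentially finite type local algebras over a henselian ring are Mittag-Leffler. -/

set_option autoImplicit false
set_option backward.isDefEq.respectTransparency false
set_option backward.isDefEq.respectTransparency.types false
attribute [-instance] CategoryTheory.catToReflQuiver
set_option linter.style.haveILetI false

universe u

noncomputable section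

open TensorProduct IsLocalRing

namespace Groth.Agent.FlatML

set_option maxHeartbeats 800000 in
/-- An elementary etale neighbourhood of the closed point of a henselian ring has the same local ring. -/
theorem bijective_atPrime_of_henselian {A R' : Type u} [CommRing A] [HenselianLocalRing A] [CommRing R'] [Algebra A R']
    (p' : Ideal R') [p'.IsPrime] (h : FlatCA.IsEtaleNhd A R' (maximalIdeal A) p') :
    Function.Bijective (algebraMap A (Localization.AtPrime p')) := by
  obtain ⟨he, hp', hκ⟩ := h
  haveI := he; haveI := hp'
  let m := maximalIdeal A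
  let mp := Ideal.ResidueField.mapₐ m p' (Algebra.ofId A R') hp'.over
  let e1 : (A ⧸ m) →+* m.ResidueField := algebraMap (A ⧸ m) m.ResidueField
  let eq1 := RingEquiv.ofBijective e1 (Ideal.bijective_algebraMap_quotient_residueField m)
  let eq2 := RingEquiv.ofBijective mp.toRingHom hκ
  let τ : p'.ResidueField →+* ResidueField A := eq1.symm.toRingHom.comp eq2.symm.toRingHom
  have hτ : τ.comp (algebraMap A p'.ResidueField) = (residue A).comp (algebraMap A A) := RingHom.ext fun a => by
    show eq1.symm (eq2.symm (algebraMap A p'.ResidueField a)) = residue A a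
    rw [eq1.symm_apply_eq, eq2.symm_apply_eq]
    exact (mp.commutes a).symm
  obtain ⟨f, ⟨hf, -⟩, -⟩ := Hensel.existsUnique_algHom_of_residueField A A R' p' τ hτ
  let A' := Localization.AtPrime p'
  let σ : A' →ₐ[A] A := IsLocalization.liftAlgHom (M := p'.primeCompl) (f := f) fun s => by
    by_contra hu
    exact s.2 (hf ▸ (show f.toRingHom s ∈ maximalIdeal A from hu))
  have hσs : Function.Surjective σ := fun a => ⟨algebraMap A A' a, σ.commutes a⟩
  letI : Algebra R' A := f.toRingHom.toAlgebra
  haveI : IsScalarTower A R' A := IsScalarTower.of_algebraMap_eq fun a => (f.commutes a).symm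
  haveI : Algebra.Etale R' A := Algebra.Etale.of_restrictScalars A R' A
  letI : Algebra A' A := σ.toRingHom.toAlgebra
  haveI : IsScalarTower R' A' A := IsScalarTower.of_algebraMap_eq fun r => (IsLocalization.lift_eq _ r).symm
  haveI : Module.Flat A' A := (Module.flat_iff_of_isLocalization A' p'.primeCompl A).2 inferInstance
  haveI : IsLocalHom (algebraMap A' A) := IsLocalHom.of_surjective _ hσs
  haveI : Module.FaithfullyFlat A' A := Module.FaithfullyFlat.of_flat_of_isLocalHom
  have hσi : Function.Injective σ := FaithfulSMul.algebraMap_injective A' A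
  refine ⟨fun a b hab => ?_, fun z => ⟨σ z, hσi (σ.commutes _)⟩⟩
  have := congrArg σ hab
  rwa [σ.commutes, σ.commutes] at this

set_option maxHeartbeats 1600000 in
theorem isMittagLeffler {A B : Type u} [CommRing A] [HenselianLocalRing A] [CommRing B] [IsLocalRing B] [Algebra A B]
    [IsLocalHom (algebraMap A B)] [Algebra.EssFiniteType A B]
    (N : Type u) [AddCommGroup N] [Module B N] [Module A N] [IsScalarTower A B N] [Module.Finite B N]
    [Module.Flat A N] : CAlg.IsMittagLeffler A N := by
  obtain ⟨P, _, _, _, q, _, N₀, _, _, _, _, _, _, _, ι, hq, hι, hflat⟩ := exists_spread_model (A := A) (B := B) N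
  haveI := hq; haveI := hι
  obtain ⟨R', _, _, p', _, hR, h⟩ := exists_free_open N₀ (maximalIdeal A) q hflat
  let A' := Localization.AtPrime p'
  have hb : Function.Bijective (algebraMap A A') := bijective_atPrime_of_henselian p' hR
  let e := RingEquiv.ofBijective (algebraMap A A') hb
  letI : Algebra A' P := ((algebraMap A P).comp e.symm.toRingHom).toAlgebra
  have he : ∀ a, e.symm (algebraMap A A' a) = a := fun a => e.symm_apply_apply a
  haveI : IsScalarTower A A' P := IsScalarTower.of_algebraMap_eq fun a => by
    show algebraMap A P a = algebraMap A P (e.symm (algebraMap A A' a))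
    rw [he]
  letI : Module A' N₀ := Module.compHom N₀ (algebraMap A' P)
  haveI : IsScalarTower A' P N₀ := IsScalarTower.of_algebraMap_smul fun _ _ => rfl
  haveI : Algebra.IsPushout A A' P P := by
    refine ⟨?_⟩
    show IsBaseChange A' (IsScalarTower.toAlgHom A P P).toLinearMap
    let μ : A' ⊗[A] P →ₗ[A'] P := LinearMap.liftBaseChange A' (IsScalarTower.toAlgHom A P P).toLinearMap
    have hμ : ∀ a t, μ (a ⊗ₜ t) = a • t := fun a t => LinearMap.liftBaseChange_tmul A' _ a t
    have hμb : Function.Bijective μ := by
      refine Function.bijective_iff_has_inverse.2 ⟨fun x => 1 ⊗ₜ x, fun w => ?_, fun x => ?_⟩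
      · induction w using TensorProduct.induction_on with
        | zero => simp
        | add u v hu hv => exact ((congrArg (fun z => (1 : A') ⊗ₜ[A] z) (map_add μ u v)).trans (tmul_add _ _ _)).trans
                                   (congrArg₂ (· + ·) hu hv)
        | tmul a x =>
          obtain ⟨a, rfl⟩ := hb.2 a
          show (1 : A') ⊗ₜ[A] μ (algebraMap A A' a ⊗ₜ x) = algebraMap A A' a ⊗ₜ[A] x
          rw [hμ, algebraMap_smul, ← smul_tmul, Algebra.smul_def, mul_one]
      · show μ ((1 : A') ⊗ₜ x) = x
        rw [hμ, one_smul]
    exact IsBaseChange.of_equiv (LinearEquiv.ofBijective μ hμb) fun x => (hμ 1 x).trans (one_smul _ _)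
  haveI : Algebra.IsPushout A P A' P := Algebra.IsPushout.symm inferInstance
  obtain ⟨c, x, hx, hcx, hxq, -, hfree, hui⟩ := h P N₀ LinearMap.id (IsBaseChange.ofEquiv (LinearEquiv.refl P N₀))
  have hxq' : x = q := hxq
  subst hxq'
  let L := LocalizedModule (Submonoid.powers c) N₀
  let l := LocalizedModule.mkLinearMap (Submonoid.powers c) N₀
  let l' : L →ₗ[P] N := IsLocalizedModule.liftOfLE (Submonoid.powers c) x.primeCompl (Submonoid.powers_le.2 hcx) l ι
  haveI : IsLocalizedModule x.primeCompl l' := inferInstanceAs (IsLocalizedModule x.primeCompl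
    (IsLocalizedModule.liftOfLE (Submonoid.powers c) x.primeCompl (Submonoid.powers_le.2 hcx) l ι))
  haveI : IsScalarTower A A' L := IsScalarTower.to₁₂₄ A A' P L
  haveI := hfree
  haveI : Module.Free A A' := Module.Free.of_equiv (LinearEquiv.ofBijective (Algebra.linearMap A A') hb)
  haveI : Module.Free A L := Module.Free.trans (S := A')
  refine ml_localization (A := A) (C := P) (M := L) x.primeCompl l' (fun w hw => ?_)
    (CAlgUI.ml_of_projective (M := L))
  let uA' : L →ₗ[A'] L := (LinearMap.lsmul P L w).restrictScalars A'
  have hu : CAlgX.UniversallyInjective A' uA' := hui w hw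
  rw [show (LinearMap.lsmul P L w).restrictScalars A = uA'.restrictScalars A from LinearMap.ext fun _ => rfl]
  exact universallyInjective_of_bijective hb uA' hu

end Groth.Agent.FlatML
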