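import Groth.Agent.FlatML.Free
import Groth.Agent.FlatML.Model
import Groth.Agent.ValEtale7.Local
import Groth.Agent.FlatPure.Model

/-! Content ideals in flat finite modules over local algebras over a valuation ring. -/

set_option autoImplicit false
set_option backward.isDefEq.respectTransparency false
set_option backward.isDefEq.respectTransparency.types false
attribute [-instance] CategoryTheory.catToReflQuiver
set_option linter.style.haveILetI false

universe u

noncomputable section

open TensorProduct IsLocalRing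

namespace Groth.Agent.FlatML

/-- In a free module over a valuation ring with the values of `A`, every element is a multiple from `A` of a
primitive one. -/
theorem exists_smul_primitive {A A' L : Type u} [CommRing A] [CommRing A'] [Algebra A A'] [Nontrivial A']
    (hsv : ValEtale7.SameValues A A') [AddCommGroup L] [Module A' L] [Module.Free A' L] (x : L) :
    ∃ (a : A) (y : L), x = algebraMap A A' a • y ∧ (a ≠ 0 → ∃ φ : L →ₗ[A'] A', IsUnit (φ y)) := by
  classical
  let b := Module.Free.chooseBasis A' L
  by_cases hx : x = 0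
  · exact ⟨0, 0, by rw [hx, smul_zero], fun h => absurd rfl h⟩
  have hsupp : (b.repr x).support.Nonempty := Finsupp.support_nonempty_iff.2 fun h => hx (b.repr.map_eq_zero_iff.1 h)
  -- a coefficient dividing all others
  have key : ∀ s : Finset (Module.Free.ChooseBasisIndex A' L), s.Nonempty →
      ∃ i ∈ s, ∀ j ∈ s, b.repr x i ∣ b.repr x j := fun s hs => by
    induction hs using Finset.Nonempty.cons_induction with
    | singleton a => exact ⟨a, Finset.mem_singleton_self a, fun j hj => by rw [Finset.mem_singleton.1 hj]⟩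
    | cons a s ha hs ih =>
      obtain ⟨i, hi, hij⟩ := ih
      rcases hsv.dvd_total (b.repr x a) (b.repr x i) with h | h
      · exact ⟨a, Finset.mem_cons_self a s, fun j hj => (Finset.mem_cons.1 hj).elim (fun e => by rw [e])
          fun hj => h.trans (hij j hj)⟩
      · exact ⟨i, Finset.mem_cons.2 (Or.inr hi), fun j hj => (Finset.mem_cons.1 hj).elim (fun e => e ▸ h)
          fun hj => hij j hj⟩
  obtain ⟨i, hi, hdiv⟩ := key _ hsupp
  obtain ⟨a, v, hav⟩ := hsv.exists_eq (b.repr x i) (Finsupp.mem_support_iff.1 hi)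
  have hall : ∀ j, ∃ c, b.repr x j = algebraMap A A' a * c := fun j => by
    by_cases hj : j ∈ (b.repr x).support
    · obtain ⟨c, hc⟩ := hdiv j hj
      exact ⟨v * c, by rw [hc, hav]; ring⟩
    · exact ⟨0, by rw [mul_zero, Finsupp.notMem_support_iff.1 hj]⟩
  choose c hc using hall
  let y : L := ∑ j ∈ (b.repr x).support, c j • b j
  refine ⟨a, y, ?_, fun ha => ⟨b.coord i, ?_⟩⟩
  · conv_lhs => rw [← b.linearCombination_repr x, Finsupp.linearCombination_apply, Finsupp.sum]
    rw [Finset.smul_sum]
    exact Finset.sum_congr rfl fun j _ => by rw [hc j, mul_smul]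
  · have h1 : algebraMap A A' a * b.coord i y = algebraMap A A' a * v := by
      rw [show b.coord i y = c i by
        simp [y, Finsupp.single_apply, hi], ← hc i, hav, mul_comm]
    haveI := hsv.isDomain
    rw [mul_left_cancel₀ (fun h => ha (hsv.inj (h.trans (map_zero _).symm))) h1]
    exact v.isUnit

section model

variable {A P R' SA : Type u} [CommRing A] [CommRing P] [Algebra A P] [CommRing R'] [Algebra A R'] (p' : Ideal R')
  [p'.IsPrime] [CommRing SA] [Algebra P SA] [Algebra A SA] [Algebra (Localization.AtPrime p') SA]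
  [IsScalarTower A P SA] [IsScalarTower A (Localization.AtPrime p') SA] [Algebra.IsPushout A P (Localization.AtPrime p') SA]
  {N N₀ NA L : Type u} [AddCommGroup N] [Module P N] [Module A N] [IsScalarTower A P N]
  [AddCommGroup N₀] [Module P N₀] [Module A N₀] [IsScalarTower A P N₀]
  [AddCommGroup NA] [Module SA NA] [Module P NA] [IsScalarTower P SA NA]
  [AddCommGroup L] [Module SA L] [Module (Localization.AtPrime p') L] [IsScalarTower (Localization.AtPrime p') SA L]
  (q : Ideal P) [q.IsPrime] (ι : N₀ →ₗ[P] N) [IsLocalizedModule q.primeCompl ι]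
  (f : N₀ →ₗ[P] NA) (c : SA) (l : NA →ₗ[SA] L) [IsLocalizedModule (Submonoid.powers c) l]
  (X : Ideal SA) [hX : X.IsPrime] (hcX : c ∉ X) (hXq : X.comap (algebraMap P SA) = q)
  (x : N) (x₀ : N₀) (t : q.primeCompl) (hx₀ : t • x = ι x₀)
  (a : A) (y : L) (hy : l (f x₀) = algebraMap A SA a • y)

include hcX hXq hx₀ hy in
set_option maxHeartbeats 800000 in
theorem mem_span_smul_of_model [Module.Flat A (Localization.AtPrime p')] (hf : IsBaseChange SA f) :
    x ∈ Ideal.span {a} • (⊤ : Submodule A N) := by
  let A' := Localization.AtPrime p'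
  have hunit : ∀ d : q.primeCompl, Function.Bijective fun z : N => (d : P) • z := fun d => by
    have := (Module.End.isUnit_iff _).1 (IsLocalizedModule.map_units ι d)
    exact this
  obtain ⟨⟨y₀, s⟩, hs⟩ := IsLocalizedModule.surj (Submonoid.powers c) l y
  have hs' : (s : SA) • y = l y₀ := hs
  have h1 : l ((s : SA) • f x₀ - algebraMap A SA a • y₀) = 0 := by
    rw [map_sub, map_smul, map_smul, hy, ← hs', smul_comm, sub_self]
  obtain ⟨⟨_, k, rfl⟩, hk⟩ := (IsLocalizedModule.eq_zero_iff (Submonoid.powers c) l).1 h1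
  let K : Submodule P N₀ := Ideal.span {algebraMap A P a} • ⊤
  let v : P →ₗ[P] N₀ ⧸ K := LinearMap.toSpanSingleton P _ (K.mkQ x₀)
  let s' : SA := c ^ k * s
  have hs'X : s' ∉ X := fun hmem => by
    obtain ⟨k', hk'⟩ := s.2
    refine (hX.mem_or_mem hmem).elim (fun h' => hcX (hX.mem_of_pow_mem k h')) fun h' => hcX (hX.mem_of_pow_mem k' ?_)
    rwa [← hk'] at h'
  have h2 : (K.mkQ.lTensor SA) (s' ⊗ₜ x₀) = 0 := by
    have h3 : s' • f x₀ = algebraMap A SA a • (c ^ k • y₀) := by
      rw [mul_smul, smul_comm (algebraMap A SA a), ← sub_eq_zero, ← smul_sub]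
      exact hk
    obtain ⟨z₁, hz₁⟩ := hf.equiv.surjective (c ^ k • y₀)
    have h3' : s' ⊗ₜ[P] x₀ = algebraMap A SA a • z₁ := hf.equiv.injective (by
      rw [IsBaseChange.equiv_tmul, map_smul, hz₁, h3])
    rw [h3', IsScalarTower.algebraMap_apply A P SA, algebraMap_smul, map_smul]
    clear hz₁ h3'
    induction z₁ using TensorProduct.induction_on with
    | zero => rw [map_zero, smul_zero]
    | add u w hu hw => rw [map_add, smul_add, hu, hw, add_zero]
    | tmul u w =>
      rw [LinearMap.lTensor_tmul, ← tmul_smul, ← map_smul, Submodule.mkQ_apply,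
        (Submodule.Quotient.mk_eq_zero K).2 (Submodule.smul_mem_smul (Ideal.mem_span_singleton_self _) trivial),
        tmul_zero]
  haveI : Module.Flat P SA := by
    haveI : Algebra.IsPushout A P A' SA := inferInstance
    exact Module.Flat.isBaseChange A P A' SA (Algebra.IsPushout.out)
  have h4 : v.lTensor SA (s' ⊗ₜ 1) = 0 := by
    rw [LinearMap.lTensor_tmul, LinearMap.toSpanSingleton_apply, one_smul]
    exact h2
  obtain ⟨w, hw⟩ := (Module.Flat.lTensor_exact SA (LinearMap.exact_subtype_ker_map v) _).1 h4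
  have h5 : ∃ e ∈ LinearMap.ker v, e ∉ q := by
    by_contra hne
    push Not at hne
    refine hs'X ?_
    have : TensorProduct.rid P SA ((LinearMap.ker v).subtype.lTensor SA w) ∈ X := by
      clear hw
      induction w using TensorProduct.induction_on with
      | zero => rw [map_zero, map_zero]; exact X.zero_mem
      | add u w hu hw => rw [map_add, map_add]; exact X.add_mem hu hw
      | tmul u e =>
        rw [LinearMap.lTensor_tmul, TensorProduct.rid_tmul, Submodule.subtype_apply, Algebra.smul_def]
        refine X.mul_mem_right _ ?_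
        have := hne e.1 e.2
        rw [← hXq] at this
        exact this
    rw [hw, TensorProduct.rid_tmul, one_smul] at this
    exact this
  obtain ⟨e, he, heq⟩ := h5
  have h6 : e • x₀ ∈ K := by
    rw [← Submodule.Quotient.mk_eq_zero, Submodule.Quotient.mk_smul]
    exact he
  change e • x₀ ∈ Ideal.span {algebraMap A P a} • (⊤ : Submodule P N₀) at h6
  rw [Submodule.ideal_span_singleton_smul] at h6
  obtain ⟨z, -, hz⟩ := (Submodule.mem_smul_pointwise_iff_exists _ _ _).1 h6
  obtain ⟨w', hw'⟩ := (hunit ⟨e, heq⟩).2 (ι z)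
  obtain ⟨w'', hw''⟩ := (hunit t).2 w'
  rw [Submodule.ideal_span_singleton_smul, Submodule.mem_smul_pointwise_iff_exists]
  refine ⟨w'', trivial, (hunit t).1 ((hunit ⟨e, heq⟩).1 ?_)⟩
  show e • (t : P) • a • w'' = e • (t : P) • x
  rw [show (t : P) • x = ι x₀ from hx₀, ← map_smul, ← hz, map_smul, smul_comm (t : P) a, smul_comm e a,
    algebraMap_smul]
  refine congrArg (a • ·) ?_
  exact (congrArg (e • ·) hw'').trans hw'

include hcX hXq hx₀ hy in
set_option maxHeartbeats 800000 in
theorem span_le_of_model [IsDomain A] [ValuationRing A] (hsv : ValEtale7.SameValues A (Localization.AtPrime p'))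
    (hp' : p'.comap (algebraMap A R') = maximalIdeal A) (φ : L →ₗ[Localization.AtPrime p'] Localization.AtPrime p')
    (hφ : a ≠ 0 → IsUnit (φ y)) [Module.Free (Localization.AtPrime p') L]
    (hui : ∀ s ∉ X, CAlgX.UniversallyInjective (Localization.AtPrime p')
      ((LinearMap.lsmul SA L s).restrictScalars (Localization.AtPrime p')))
    (J : Ideal A) (hJ : x ∈ J • (⊤ : Submodule A N)) : Ideal.span {a} ≤ J := by
  let A' := Localization.AtPrime p'
  let m := maximalIdeal A
  haveI : IsDomain A' := hsv.isDomain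
  by_cases ha : a = 0
  · rw [ha, Ideal.span_singleton_zero]
    exact bot_le
  by_contra hle
  rw [Ideal.span_singleton_le_iff_mem] at hle
  replace hφ := hφ ha
  have hJm : J ≤ Ideal.span {a} * m := fun b hb => by
    rcases ValuationRing.dvd_total a b with ⟨d, rfl⟩ | ⟨d, hd⟩
    · refine Ideal.mul_mem_mul (Ideal.mem_span_singleton_self a) ?_
      by_contra hdm
      exact hle ((Ideal.mul_unit_mem_iff_mem J (IsLocalRing.notMem_maximalIdeal.1 hdm)).1 hb)
    · exact absurd (hd ▸ J.mul_mem_right d hb) hle
  have hxm : x ∈ (Ideal.span {a} * m) • (⊤ : Submodule A N) := Submodule.smul_mono_left hJm hJ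
  -- pull back to the model
  have key : ∀ z ∈ (Ideal.span {a} * m) • (⊤ : Submodule A N), ∃ d ∉ q, ∃ z₀, ι z₀ = d • z ∧
      ∃ w ∈ (m.map (algebraMap A A')) • (⊤ : Submodule A' L), l (f z₀) = algebraMap A SA a • w := by
    intro z hz
    induction hz using Submodule.smul_induction_on' with
    | smul r hr n _ =>
      obtain ⟨b, hb, rfl⟩ := Ideal.mem_span_singleton_mul.1 hr
      obtain ⟨⟨n₀, d⟩, hd⟩ := IsLocalizedModule.surj q.primeCompl ι n
      refine ⟨d, d.2, (a * b) • n₀, ?_, algebraMap A A' b • l (f n₀), Submodule.smul_mem_smul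
        (Ideal.mem_map_of_mem _ hb) trivial, ?_⟩
      · rw [← algebraMap_smul P, map_smul, algebraMap_smul, ← hd, Submonoid.smul_def, smul_comm]
      · rw [← algebraMap_smul P (a * b) n₀, map_smul, ← algebraMap_smul SA (algebraMap A P (a * b)) (f n₀),
          ← IsScalarTower.algebraMap_apply, map_smul, map_mul, mul_smul, IsScalarTower.algebraMap_apply A A' SA b,
          algebraMap_smul SA (algebraMap A A' b)]
    | add u hu v hv ihu ihv =>
      obtain ⟨d, hd, u₀, hu₀, wu, hwu, hlu⟩ := ihu
      obtain ⟨d', hd', v₀, hv₀, wv, hwv, hlv⟩ := ihv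
      refine ⟨d * d', q.primeCompl.mul_mem hd hd', d' • u₀ + d • v₀, ?_,
        algebraMap P SA d' • wu + algebraMap P SA d • wv, ?_, ?_⟩
      · rw [map_add, map_smul, map_smul, hu₀, hv₀, smul_add, smul_smul, smul_smul, mul_comm d' d]
      · have hsm : ∀ (s : SA) (w : L), w ∈ (m.map (algebraMap A A')) • (⊤ : Submodule A' L) →
            s • w ∈ (m.map (algebraMap A A')) • (⊤ : Submodule A' L) := fun s w hw => by
          induction hw using Submodule.smul_induction_on' with
          | smul r hr n _ => rw [smul_comm]; exact Submodule.smul_mem_smul hr trivial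
          | add u _ v _ hu hv => rw [smul_add]; exact add_mem hu hv
        exact add_mem (hsm _ _ hwu) (hsm _ _ hwv)
      · rw [map_add, map_smul, map_smul, ← algebraMap_smul SA d' (f u₀), ← algebraMap_smul SA d (f v₀), map_add,
          map_smul, map_smul, hlu, hlv, smul_add, smul_comm (algebraMap P SA d'), smul_comm (algebraMap P SA d)]
  obtain ⟨d, hd, z₀, hz₀, w, hw, hlw⟩ := key _ hxm
  have h1 : ι (d • x₀ - (t : P) • z₀) = 0 := by
    rw [map_sub, map_smul, map_smul, hz₀, ← (show (t : P) • x = ι x₀ from hx₀), smul_comm, sub_self]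
  obtain ⟨e, he⟩ := (IsLocalizedModule.eq_zero_iff q.primeCompl ι).1 h1
  have he' : ((e : P) * d) • x₀ = ((e : P) * t) • z₀ := by
    rw [mul_smul, mul_smul, ← sub_eq_zero, ← smul_sub]
    exact he
  let h' : SA := algebraMap P SA ((e : P) * d)
  have hh'X : h' ∉ X := fun hm => q.primeCompl.mul_mem e.2 hd (hXq.le hm)
  have h2 : algebraMap A SA a • (h' • y - algebraMap P SA ((e : P) * t) • w) = 0 := by
    rw [smul_sub, smul_comm _ h', ← hy, smul_comm _ (algebraMap P SA ((e : P) * t)), ← hlw, ← l.map_smul,
      ← l.map_smul, algebraMap_smul, algebraMap_smul, ← f.map_smul, ← f.map_smul, he', sub_self]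
  rw [IsScalarTower.algebraMap_apply A A' SA, algebraMap_smul] at h2
  have ha' : algebraMap A A' a ≠ 0 := fun h0 => ha (hsv.inj (h0.trans (map_zero _).symm))
  have h3 : h' • y = algebraMap P SA ((e : P) * t) • w := sub_eq_zero.1 ((smul_eq_zero.1 h2).resolve_left ha')
  let k' := ResidueField A'
  have hkill : ∀ w' ∈ (m.map (algebraMap A A')) • (⊤ : Submodule A' L), ∀ s : SA,
      (s • w') ⊗ₜ[A'] (1 : k') = 0 := by
    intro w' hw' s
    induction hw' using Submodule.smul_induction_on' with
    | smul r hr n _ =>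
      have hr' : r ∈ maximalIdeal A' := Ideal.map_le_iff_le_comap.2 (fun b hb => by
        rw [Ideal.mem_comap, IsScalarTower.algebraMap_apply A R' A']
        exact (IsLocalization.AtPrime.to_map_mem_maximal_iff A' p' _).2 (hp'.ge hb)) hr
      rw [smul_comm, smul_tmul, Algebra.smul_def, show algebraMap A' k' r = 0 from
        Ideal.Quotient.eq_zero_iff_mem.2 hr', zero_mul, tmul_zero]
    | add u _ v _ hu hv => rw [smul_add, add_tmul, hu, hv, add_zero]
  have h4 : y ⊗ₜ[A'] (1 : k') = 0 := hui h' hh'X k' (by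
    rw [map_zero, LinearMap.rTensor_tmul]
    show (h' • y) ⊗ₜ[A'] (1 : k') = 0
    rw [h3]
    exact hkill w hw _)
  have h5 := congrArg (fun z => TensorProduct.lid A' k' (φ.rTensor k' z)) h4
  simp only [map_zero] at h5
  have h6 : φ y • (1 : k') = 0 := (TensorProduct.lid_tmul (1 : k') (φ y)).symm.trans h5
  rw [Algebra.smul_def, mul_one] at h6
  exact (IsLocalRing.residue_ne_zero_iff_isUnit _).2 hφ h6

end model

set_option maxHeartbeats 1600000 in
theorem exists_content {A B : Type u} [CommRing A] [IsDomain A] [ValuationRing A] [CommRing B] [IsLocalRing B]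
    [Algebra A B] [IsLocalHom (algebraMap A B)] [Algebra.EssFiniteType A B]
    (N : Type u) [AddCommGroup N] [Module B N] [Module A N] [IsScalarTower A B N] [Module.Finite B N]
    [Module.Flat A N] (x : N) :
    ∃ I : Ideal A, I.IsPrincipal ∧ x ∈ I • (⊤ : Submodule A N) ∧
      ∀ J : Ideal A, x ∈ J • (⊤ : Submodule A N) → I ≤ J := by
  obtain ⟨P, _, _, _, q, _, N₀, _, _, _, _, _, _, _, ι, hq, hι, hflat⟩ := exists_spread_model (A := A) (B := B) N
  haveI := hq; haveI := hι
  let m := maximalIdeal A
  obtain ⟨R', _, _, p', _, hR, h⟩ := exists_free_open N₀ m q hflat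
  let A' := Localization.AtPrime p'
  haveI := hR.1
  have hp' : p'.comap (algebraMap A R') = m := hR.2.1.over.symm
  have hsv : ValEtale7.SameValues A A' := ValEtale7.sameValues_localization p' hp'
  haveI : IsDomain A' := hsv.isDomain
  -- the model
  obtain ⟨SA, NA, _, _, _, _, _, _, _, _, _, _, _, _, f, hpo1, hpo2, hf⟩ := FlatPure.exists_base_model A A' P N₀
  haveI := hpo1; haveI := hpo2
  obtain ⟨c, X, hX, hcX, hXq, hXm, hfree, hui⟩ := h SA NA f hf
  haveI := hfree
  let L := LocalizedModule (Submonoid.powers c) NA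
  let l := LocalizedModule.mkLinearMap (Submonoid.powers c) NA
  obtain ⟨⟨x₀, t⟩, hx₀⟩ := IsLocalizedModule.surj q.primeCompl ι x
  obtain ⟨a, y, hy, hprim⟩ := exists_smul_primitive (A := A) hsv (l (f x₀))
  have hy' : l (f x₀) = algebraMap A SA a • y := by
    rw [hy, IsScalarTower.algebraMap_apply A A' SA, algebraMap_smul SA (algebraMap A A' a)]
  haveI : Module.Flat R' A' := IsLocalization.flat A' p'.primeCompl
  haveI : Module.Flat A A' := Module.Flat.trans A R' A'
  refine ⟨Ideal.span {a}, ⟨⟨a, rfl⟩⟩,
    mem_span_smul_of_model p' q ι f c l X hcX hXq x x₀ t hx₀ a y hy' hf, fun J hJ => ?_⟩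
  by_cases ha : a = 0
  · rw [ha, Ideal.span_singleton_zero]
    exact bot_le
  obtain ⟨φ, hφ⟩ := hprim ha
  exact span_le_of_model p' q ι f c l X hcX hXq x x₀ t hx₀ a y hy' hsv hp' φ (fun _ => hφ) hui J hJ

end Groth.Agent.FlatML
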