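import Groth.Agent.FlatEtNhd.Fibre
import Groth.Agent.FlatEtNhd.Glue

/-! Good neighbourhoods seen over models, remembering the elements which become units. -/

set_option autoImplicit false
set_option backward.isDefEq.respectTransparency false
set_option backward.isDefEq.respectTransparency.types false
attribute [-instance] CategoryTheory.catToReflQuiver

universe u

open TensorProduct IsLocalRing Groth.Agent.FlatEtNhd

namespace Groth.Agent.FlatML

variable {R S : Type u} [CommRing R] [CommRing S] [Algebra R S]

set_option maxHeartbeats 1600000 in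
theorem exists_etale_model_unit {R' S' : Type u} [CommRing R'] [CommRing S'] [Algebra R R'] [Algebra S S'] [Algebra R' S']
    [Algebra R S'] [IsScalarTower R R' S'] [IsScalarTower R S S'] [Algebra.Etale R R'] [Algebra.Etale S S']
    {N : Type u} [AddCommGroup N] [Module S N] (p' : Ideal R') [p'.IsPrime] (hG : Good R' p' S S' N)
    (SA NA : Type u) [CommRing SA] [Algebra R SA] [Algebra S SA] [Algebra (Localization.AtPrime p') SA]
    [IsScalarTower R S SA] [IsScalarTower R (Localization.AtPrime p') SA]
    [Algebra.IsPushout R S (Localization.AtPrime p') SA]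
    [AddCommGroup NA] [Module SA NA] [Module S NA] [IsScalarTower S SA NA]
    (f : N →ₗ[S] NA) (hf : IsBaseChange SA f) :
    ∃ (C : Type u) (_ : CommRing C) (_ : Algebra SA C) (_ : Algebra (Localization.AtPrime p') C)
      (_ : IsScalarTower (Localization.AtPrime p') SA C) (_ : Algebra S C) (_ : IsScalarTower S SA C),
      Algebra.Etale SA C ∧ Module.FinitePresentation C (C ⊗[SA] NA) ∧
      Module.Free (Localization.AtPrime p') (RestrictScalars (Localization.AtPrime p') C (C ⊗[SA] NA)) ∧
      (∀ d : S, IsUnit (algebraMap S S' d) → IsUnit (algebraMap S C d)) ∧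
      ∀ Q' : Ideal S', Q'.IsPrime → Q'.LiesOver p' → ∃ x : Ideal C, x.IsPrime ∧
        x.comap (algebraMap S C) = Q'.comap (algebraMap S S') ∧
        x.LiesOver (maximalIdeal (Localization.AtPrime p')) := by
  let A := Localization.AtPrime p'
  letI : Algebra R' SA := ((algebraMap A SA).comp (algebraMap R' A)).toAlgebra
  haveI : IsScalarTower R' A SA := IsScalarTower.of_algebraMap_eq' rfl
  haveI : IsScalarTower R R' SA := IsScalarTower.of_algebraMap_eq fun r => by
    show algebraMap R SA r = algebraMap A SA (algebraMap R' A (algebraMap R R' r))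
    rw [← IsScalarTower.algebraMap_apply R R' A, ← IsScalarTower.algebraMap_apply R A SA]
  let T := R' ⊗[R] S
  letI : Algebra S T := Algebra.TensorProduct.rightAlgebra
  haveI : IsScalarTower R S T := Algebra.TensorProduct.right_isScalarTower
  haveI : Algebra.Etale S T := DevExist.etale_rightAlgebra R R' S
  let π : T →ₐ[R'] S' := Algebra.TensorProduct.lift (Algebra.ofId R' S') (IsScalarTower.toAlgHom R S S')
    fun _ _ => Commute.all _ _
  letI : Algebra T S' := π.toRingHom.toAlgebra
  haveI : IsScalarTower R' T S' := IsScalarTower.of_algebraMap_eq fun a => (π.commutes a).symm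
  haveI : IsScalarTower S T S' := IsScalarTower.of_algebraMap_eq fun s => by
    show algebraMap S S' s = Algebra.TensorProduct.lift _ _ _ ((1 : R') ⊗ₜ[R] s)
    rw [Algebra.TensorProduct.lift_tmul, map_one, one_mul]
    rfl
  haveI : Algebra.Etale T S' := Algebra.Etale.of_restrictScalars S T S'
  let σ : T →ₐ[R'] SA := Algebra.TensorProduct.lift (Algebra.ofId R' SA) (IsScalarTower.toAlgHom R S SA)
    fun _ _ => Commute.all _ _
  letI : Algebra T SA := σ.toRingHom.toAlgebra
  haveI : IsScalarTower R' T SA := IsScalarTower.of_algebraMap_eq fun a => (σ.commutes a).symm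
  haveI : IsScalarTower S T SA := IsScalarTower.of_algebraMap_eq fun s => by
    show algebraMap S SA s = Algebra.TensorProduct.lift _ _ _ ((1 : R') ⊗ₜ[R] s)
    rw [Algebra.TensorProduct.lift_tmul, map_one, one_mul]
    rfl
  haveI : Algebra.IsPushout R R' S T := TensorProduct.isPushout (R := R) (S := R') (T := S)
  haveI : IsScalarTower R T SA := IsScalarTower.to₁₃₄ R R' T SA
  haveI hAS : Algebra.IsPushout R A S SA := Algebra.IsPushout.symm inferInstance
  haveI : Algebra.IsPushout R' A T SA :=
    (Algebra.IsPushout.comp_iff (R := R) (S := R') (R' := S) (S' := T) (T := A) (T' := SA)).1 hAS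
  haveI : Algebra.IsPushout R' T A SA := Algebra.IsPushout.symm inferInstance
  let C := SA ⊗[T] S'
  letI : Algebra S' C := Algebra.TensorProduct.rightAlgebra
  haveI : IsScalarTower T S' C := Algebra.TensorProduct.right_isScalarTower
  haveI : IsScalarTower R' T C := IsScalarTower.to₁₂₄ R' T SA C
  haveI : IsScalarTower R' S' C := IsScalarTower.to₁₃₄ R' T S' C
  haveI : IsScalarTower R' A C := IsScalarTower.to₁₂₄ R' A SA C
  haveI : IsScalarTower S T C := IsScalarTower.to₁₂₄ S T SA C
  haveI : IsScalarTower S S' C := IsScalarTower.to₁₃₄ S T S' C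
  haveI : Algebra.IsPushout T SA S' C := TensorProduct.isPushout (R := T) (S := SA) (T := S')
  haveI : Algebra.IsPushout T S' SA C := Algebra.IsPushout.symm inferInstance
  haveI : Algebra.IsPushout R' S' A C := DevExist.isPushout_trans R' T S' A SA C
  haveI : Algebra.IsPushout R' A S' C := Algebra.IsPushout.symm inferInstance
  let M := C ⊗[SA] NA
  let g : N →ₗ[S] M := ((TensorProduct.mk SA C NA 1).restrictScalars S).comp f
  obtain ⟨hfp, hfree⟩ := hG C M g (hf.comp (TensorProduct.isBaseChange SA NA C))
  refine ⟨C, inferInstance, inferInstance, inferInstance, inferInstance, inferInstance, inferInstance, inferInstance,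
    hfp, ?_, fun d hd => ?_, fun Q' hQ' hQp => ?_⟩
  · haveI := hfree
    haveI : Module.Free A M := hfree
    exact Module.Free.of_equiv
      ({ (RestrictScalars.addEquiv A C M).symm with
        map_smul' := fun a m => (IsScalarTower.algebraMap_smul C a m).symm } : M ≃ₗ[A] RestrictScalars A C M)
  · rw [IsScalarTower.algebraMap_apply S S' C]
    exact hd.map _
  · haveI := hQ'; haveI := hQp
    have hκ : Function.Bijective (Ideal.ResidueField.mapₐ p' (maximalIdeal A) (Algebra.ofId R' A)
        (Ideal.over_def (maximalIdeal A) p')) :=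
      FlatDevLoc.residueField_bijectiveₐ_of_isLocalization p'.primeCompl p' (maximalIdeal A)
    obtain ⟨x, hx, hxQ, hxm⟩ := FlatDevBC.exists_prime_over (R := R') (R' := A) (T := S') (T' := C)
      p' (maximalIdeal A) hκ Q'
    haveI := hx; haveI := hxQ; haveI := hxm
    exact ⟨x, hx, by rw [IsScalarTower.algebraMap_eq S S' C, ← Ideal.comap_comap, ← Ideal.under_def, hxQ.over], hxm⟩

end Groth.Agent.FlatML
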