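import Mathlib

/-! Injectivity modulo the maximal ideal on a basic open of a base change. -/

set_option autoImplicit false
set_option backward.isDefEq.respectTransparency false
set_option backward.isDefEq.respectTransparency.types false
set_option linter.style.haveILetI false

universe u

noncomputable section

open TensorProduct IsLocalRing

namespace Groth.Agent.FlatML

variable {R S A SA N NA : Type u} [CommRing R] [CommRing S] [Algebra R S] [CommRing A] [IsLocalRing A] [Algebra R A]
  [CommRing SA] [Algebra R SA] [Algebra S SA] [Algebra A SA] [IsScalarTower R S SA] [IsScalarTower R A SA]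
  [Algebra.IsPushout R S A SA] [AddCommGroup N] [Module S N] [Module R N] [IsScalarTower R S N]
  [AddCommGroup NA] [Module SA NA] [Module S NA] [IsScalarTower S SA NA] [Module A NA] [IsScalarTower A SA NA]
  (f : N →ₗ[S] NA) (hf : IsBaseChange SA f) (p : Ideal R) [p.IsPrime]
  (e : p.ResidueField ≃ₗ[R] ResidueField A)
  (hres : ∀ a : A, ∃ d ∉ p, ∃ r : R, algebraMap R A d * a - algebraMap R A r ∈ maximalIdeal A)
  (x : Ideal SA) [x.IsPrime] (hxm : (maximalIdeal A).map (algebraMap A SA) ≤ x)
  (hxp : x.comap (algebraMap R SA) = p) (q : Ideal S) (hxq : x.comap (algebraMap S SA) = q)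

include hres in
/-- Up to scalars, an element of the base change comes from the ring modulo the maximal ideal. -/
theorem exists_approx (s : SA) : ∃ d ∉ p, ∃ h : S,
    algebraMap R SA d * s - algebraMap S SA h ∈ (maximalIdeal A).map (algebraMap A SA) := by
  have hp : Algebra.IsPushout R A S SA := Algebra.IsPushout.symm inferInstance
  obtain ⟨w, rfl⟩ := hp.out.equiv.surjective s
  induction w using TensorProduct.induction_on with
  | zero =>
    refine ⟨1, p.one_notMem, 0, ?_⟩
    rw [map_zero, map_zero, mul_zero, sub_zero]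
    exact zero_mem _
  | tmul a h =>
    obtain ⟨d, hd, r, hr⟩ := hres a
    refine ⟨d, hd, r • h, ?_⟩
    have hr' : algebraMap R SA d * algebraMap A SA a - algebraMap R SA r ∈ (maximalIdeal A).map (algebraMap A SA) := by
      have := Ideal.mem_map_of_mem (algebraMap A SA) hr
      rwa [map_sub, map_mul, ← IsScalarTower.algebraMap_apply, ← IsScalarTower.algebraMap_apply] at this
    have key : algebraMap R SA d * (hp.out.equiv (a ⊗ₜ h)) - algebraMap S SA (r • h) =
        (algebraMap R SA d * algebraMap A SA a - algebraMap R SA r) * algebraMap S SA h := by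
      rw [IsBaseChange.equiv_tmul, AlgHom.toLinearMap_apply, IsScalarTower.toAlgHom_apply, Algebra.smul_def,
        Algebra.smul_def, map_mul, ← IsScalarTower.algebraMap_apply R S SA]
      ring
    rw [key]
    exact Ideal.mul_mem_right _ _ hr'
  | add u v hu hv =>
    obtain ⟨d₁, hd₁, h₁, hs⟩ := hu
    obtain ⟨d₂, hd₂, h₂, ht⟩ := hv
    refine ⟨d₁ * d₂, fun hm => (‹p.IsPrime›.mem_or_mem hm).elim hd₁ hd₂, d₂ • h₁ + d₁ • h₂, ?_⟩
    have key : algebraMap R SA (d₁ * d₂) * hp.out.equiv (u + v) - algebraMap S SA (d₂ • h₁ + d₁ • h₂) =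
        algebraMap R SA d₂ * (algebraMap R SA d₁ * hp.out.equiv u - algebraMap S SA h₁) +
          algebraMap R SA d₁ * (algebraMap R SA d₂ * hp.out.equiv v - algebraMap S SA h₂) := by
      rw [Algebra.smul_def, Algebra.smul_def, map_add, map_mul, map_add, map_mul, map_mul,
        ← IsScalarTower.algebraMap_apply R S SA, ← IsScalarTower.algebraMap_apply R S SA]
      ring
    rw [key]
    exact add_mem (Ideal.mul_mem_left _ _ hs) (Ideal.mul_mem_left _ _ ht)

variable {g : S} (hK : ∀ h ∉ q, ∀ z : N ⊗[R] p.ResidueField, h • z = 0 → g • z = 0)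

include hf e hres hxm hxp hxq hK in
theorem smul_eq_zero_of_smul (s : SA) (hs : s ∉ x) (z : NA ⊗[A] ResidueField A) (hz : s • z = 0) :
    algebraMap S SA g • z = 0 := by
  letI : Module R NA := Module.compHom NA (algebraMap R SA)
  haveI : IsScalarTower R SA NA := IsScalarTower.of_algebraMap_smul fun _ _ => rfl
  haveI : IsScalarTower R S NA := IsScalarTower.to₁₂₄ R S SA NA
  haveI : IsScalarTower R A NA := IsScalarTower.to₁₂₄ R A SA NA
  let k := ResidueField A
  have hp : Algebra.IsPushout R A S SA := Algebra.IsPushout.symm inferInstance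
  haveI := hp
  let eA : A ⊗[R] N ≃ₗ[A] NA :=
    (Algebra.IsPushout.cancelBaseChange R A S SA N).symm ≪≫ₗ hf.equiv.restrictScalars A
  let E : N ⊗[R] p.ResidueField → NA ⊗[A] k := fun w => TensorProduct.comm A k NA (eA.lTensor k
    ((AlgebraTensorModule.cancelBaseChange R A A k N).symm ((e.rTensor N) (TensorProduct.comm R N p.ResidueField w))))
  have hE : Function.Bijective E :=
    (TensorProduct.comm A k NA).bijective.comp ((eA.lTensor k).bijective.comp
      ((AlgebraTensorModule.cancelBaseChange R A A k N).symm.bijective.comp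
        ((e.rTensor N).bijective.comp (TensorProduct.comm R N p.ResidueField).bijective)))
  have hEadd : ∀ a b, E (a + b) = E a + E b := fun a b => by simp only [E, map_add]
  have hE0 : E 0 = 0 := by simp only [E, map_zero]
  have hEt : ∀ n α, E (n ⊗ₜ α) = f n ⊗ₜ e α := fun n α => by
    simp only [E, TensorProduct.comm_tmul, LinearEquiv.rTensor_tmul, AlgebraTensorModule.cancelBaseChange_symm_tmul,
      LinearEquiv.lTensor_tmul]
    congr 1
    show hf.equiv ((Algebra.IsPushout.cancelBaseChange R A S SA N).symm (1 ⊗ₜ n)) = f n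
    rw [Algebra.IsPushout.cancelBaseChange_symm_tmul, IsBaseChange.equiv_tmul, map_one, one_smul]
  have hEs : ∀ (h : S) w, E (h • w) = algebraMap S SA h • E w := fun h w => by
    induction w using TensorProduct.induction_on with
    | zero => rw [smul_zero, hE0, smul_zero]
    | add a b ha hb => rw [smul_add, hEadd, hEadd, ha, hb, smul_add]
    | tmul n α => rw [smul_tmul', hEt, hEt, smul_tmul', map_smul, algebraMap_smul]
  obtain ⟨d, hd, h, hh⟩ := exists_approx (S := S) (SA := SA) p hres s
  have hhq : h ∉ q := fun hq' => by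
    rw [← hxq, Ideal.mem_comap] at hq'
    have h1 : algebraMap R SA d * s ∈ x := by
      have := add_mem (hxm hh) hq'
      rwa [sub_add_cancel] at this
    refine (‹x.IsPrime›.mem_or_mem h1).elim (fun hd' => hd ?_) hs
    rw [← hxp]
    exact hd'
  have hkill : ∀ y ∈ (maximalIdeal A).map (algebraMap A SA), ∀ v : NA ⊗[A] k, y • v = 0 := by
    intro y hy v
    have hle : (maximalIdeal A).map (algebraMap A SA) ≤ Module.annihilator SA (NA ⊗[A] k) := by
      refine Ideal.map_le_iff_le_comap.2 fun a ha => ?_
      rw [Ideal.mem_comap, Module.mem_annihilator]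
      intro v
      induction v using TensorProduct.induction_on with
      | zero => exact smul_zero _
      | add a b h1 h2 => rw [smul_add, h1, h2, add_zero]
      | tmul n α =>
        rw [smul_tmul', algebraMap_smul, smul_tmul, Algebra.smul_def,
          show algebraMap A k a = 0 from Ideal.Quotient.eq_zero_iff_mem.2 ha, zero_mul, tmul_zero]
    exact Module.mem_annihilator.1 (hle hy) v
  obtain ⟨w, rfl⟩ := hE.2 z
  have h2 : h • w = 0 := hE.1 (by
    rw [hE0, hEs, ← sub_sub_cancel (algebraMap R SA d * s) (algebraMap S SA h), sub_smul, mul_smul, hz, smul_zero,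
      hkill _ hh, sub_zero])
  rw [← hEs, hK h hhq w h2, hE0]

include hf e hres hxm hxp hxq hK in
/-- Elements not vanishing at the point act injectively modulo the maximal ideal. -/
theorem injective_lsmul {L : Type u} [AddCommGroup L] [Module SA L] [Module A L] [IsScalarTower A SA L] (c : SA)
    (hc : c ∉ x) (hcg : ∃ (j : ℕ) (a : SA), algebraMap S SA g * a = c ^ j) (l : NA →ₗ[SA] L)
    [IsLocalizedModule (Submonoid.powers c) l] (s : SA) (hs : s ∉ x) :
    Function.Injective (((LinearMap.lsmul SA L s).restrictScalars A).rTensor (ResidueField A)) := by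
  let k := ResidueField A
  rw [injective_iff_map_eq_zero]
  intro z hz
  have hz' : s • z = 0 := by
    rw [← hz]
    clear hz
    induction z using TensorProduct.induction_on with
    | zero => rw [smul_zero, map_zero]
    | add a b ha hb => rw [smul_add, map_add, ha, hb]
    | tmul a b => rfl
  let lk : NA ⊗[A] k →ₗ[SA] L ⊗[A] k := AlgebraTensorModule.rTensor A k l
  obtain ⟨⟨z₀, t⟩, h0⟩ := IsLocalizedModule.surj (Submonoid.powers c) lk z
  have ht : (t : SA) • z = lk z₀ := h0
  have h1 : lk (s • z₀) = 0 := by rw [map_smul, ← ht, smul_comm, hz', smul_zero]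
  obtain ⟨⟨_, n, rfl⟩, hn⟩ := (IsLocalizedModule.eq_zero_iff (Submonoid.powers c) lk).1 h1
  have h2 : algebraMap S SA g • z₀ = 0 := by
    refine smul_eq_zero_of_smul f hf p e hres x hxm hxp q hxq hK (c ^ n * s) (fun h => ?_) z₀ ?_
    · exact (‹x.IsPrime›.mem_or_mem h).elim (fun h' => hc (‹x.IsPrime›.mem_of_pow_mem n h')) hs
    · rw [mul_smul]
      exact hn
  obtain ⟨j, a, ha⟩ := hcg
  have h3 : c ^ j • ((t : SA) • z) = 0 := by
    rw [ht, ← ha, mul_comm, mul_smul, ← map_smul, h2, map_zero, smul_zero]
  have hj := (Module.End.isUnit_iff _).1 (IsLocalizedModule.map_units lk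
    (⟨c ^ j, ⟨j, rfl⟩⟩ : Submonoid.powers c))
  have ht' := (Module.End.isUnit_iff _).1 (IsLocalizedModule.map_units lk t)
  have h4 : (t : SA) • z = 0 := hj.1 (h3.trans (smul_zero (A := L ⊗[A] k) (c ^ j)).symm)
  exact ht'.1 (h4.trans (smul_zero (A := L ⊗[A] k) (t : SA)).symm)

end Groth.Agent.FlatML
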