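import Groth.Agent.FlatML.Kill
import Groth.Agent.FlatML.Inj
import Groth.Agent.FlatML.EtaleModel
import Groth.Agent.FlatEtOpen.Avoid
import Groth.Agent.FlatEtOpen.Local
import Groth.Agent.FlatEtNhd.Near
import Groth.Agent.S0448

/-! Free sections on an open set all of whose complementary elements act universally injectively. -/

set_option autoImplicit false
set_option backward.isDefEq.respectTransparency false
set_option backward.isDefEq.respectTransparency.types false
attribute [-instance] CategoryTheory.catToReflQuiver
set_option linter.style.haveILetI false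

universe u

noncomputable section

open TensorProduct IsLocalRing

namespace Groth.Agent.FlatML

/-- The residue fields of the local ring of an elementary etale neighbourhood. -/
theorem exists_residue_equiv {R R' : Type u} [CommRing R] [CommRing R'] [Algebra R R'] (p : Ideal R) [p.IsPrime]
    (p' : Ideal R') [p'.IsPrime] (hR : FlatCA.IsEtaleNhd R R' p p') :
    Nonempty (p.ResidueField ≃ₗ[R] ResidueField (Localization.AtPrime p')) ∧
      (∀ a : Localization.AtPrime p', ∃ d ∉ p, ∃ r : R,
        algebraMap R (Localization.AtPrime p') d * a - algebraMap R (Localization.AtPrime p') r ∈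
          maximalIdeal (Localization.AtPrime p')) ∧
      (maximalIdeal (Localization.AtPrime p')).comap (algebraMap R (Localization.AtPrime p')) = p := by
  obtain ⟨h, hb⟩ := FlatEtNhd.bijective_residue_localRing p p' hR
  let A := Localization.AtPrime p'
  let m := maximalIdeal A
  let ψ : p.ResidueField →ₐ[R] m.ResidueField := Ideal.ResidueField.mapₐ p m (Algebra.ofId R A) h.over
  let φ : (A ⧸ m) →ₐ[R] m.ResidueField := IsScalarTower.toAlgHom R (A ⧸ m) m.ResidueField
  have hφ : Function.Bijective φ := Ideal.bijective_algebraMap_quotient_residueField m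
  refine ⟨⟨(LinearEquiv.ofBijective ψ.toLinearMap hb) ≪≫ₗ (LinearEquiv.ofBijective φ.toLinearMap hφ).symm⟩,
    fun a => ?_, h.over.symm⟩
  obtain ⟨w, hw⟩ := hb.2 (algebraMap A m.ResidueField a)
  obtain ⟨r, d, hd, hrd⟩ := IsFractionRing.div_surjective (A := R ⧸ p) w
  obtain ⟨r, rfl⟩ := Ideal.Quotient.mk_surjective r
  obtain ⟨d, rfl⟩ := Ideal.Quotient.mk_surjective d
  have hd0 : d ∉ p := fun hm => nonZeroDivisors.ne_zero hd (Ideal.Quotient.eq_zero_iff_mem.2 hm)
  refine ⟨d, hd0, r, ?_⟩
  have hne : algebraMap R p.ResidueField d ≠ 0 := fun h0 => hd0 (Ideal.algebraMap_residueField_eq_zero.1 h0)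
  have h1 : algebraMap R p.ResidueField d * w = algebraMap R p.ResidueField r := by
    rw [← hrd]
    show algebraMap R p.ResidueField d * (algebraMap R p.ResidueField r / algebraMap R p.ResidueField d) = _
    field_simp
  have h2 : algebraMap A m.ResidueField (algebraMap R A d * a - algebraMap R A r) = 0 := by
    rw [map_sub, map_mul, ← IsScalarTower.algebraMap_apply, ← IsScalarTower.algebraMap_apply, ← hw,
      ← (Ideal.ResidueField.mapₐ p m (Algebra.ofId R A) h.over).commutes d, ← map_mul, h1, AlgHom.commutes, sub_self]
  exact Ideal.algebraMap_residueField_eq_zero.1 h2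

set_option maxHeartbeats 1600000 in
/-- A module flat at a point becomes, over the local ring of an elementary etale neighbourhood of the base, free on
a basic open set around the point on which the elements not vanishing at the point act universally injectively. -/
theorem exists_free_open {R S : Type u} [CommRing R] [CommRing S] [Algebra R S] [Algebra.FiniteType R S]
    (N : Type u) [AddCommGroup N] [Module S N] [Module R N] [IsScalarTower R S N] [Module.Finite S N]
    (p : Ideal R) [p.IsPrime] (q : Ideal S) [q.IsPrime] [q.LiesOver p] (hflat : FlatCA.FlatAt R q N) :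
    ∃ (R' : Type u) (_ : CommRing R') (_ : Algebra R R') (p' : Ideal R') (_ : p'.IsPrime),
      FlatCA.IsEtaleNhd R R' p p' ∧
      ∀ (SA NA : Type u) [CommRing SA] [Algebra R SA] [Algebra S SA] [Algebra (Localization.AtPrime p') SA]
        [IsScalarTower R S SA] [IsScalarTower R (Localization.AtPrime p') SA]
        [Algebra.IsPushout R S (Localization.AtPrime p') SA]
        [AddCommGroup NA] [Module SA NA] [Module S NA] [IsScalarTower S SA NA]
        [Module (Localization.AtPrime p') NA] [IsScalarTower (Localization.AtPrime p') SA NA]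
        (f : N →ₗ[S] NA), IsBaseChange SA f →
        ∃ (c : SA) (x : Ideal SA) (_ : x.IsPrime), c ∉ x ∧ x.comap (algebraMap S SA) = q ∧
          x.comap (algebraMap (Localization.AtPrime p') SA) = maximalIdeal (Localization.AtPrime p') ∧
          Module.Free (Localization.AtPrime p') (LocalizedModule (Submonoid.powers c) NA) ∧
          ∀ s ∉ x, CAlgX.UniversallyInjective (Localization.AtPrime p')
            ((LinearMap.lsmul SA (LocalizedModule (Submonoid.powers c) NA) s).restrictScalars
              (Localization.AtPrime p')) := by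
  classical
  obtain ⟨g, hg, hK⟩ := exists_kill (N := N) p q
  let Sg := Localization.Away g
  let Ng := LocalizedModule (Submonoid.powers g) N
  let lg := LocalizedModule.mkLinearMap (Submonoid.powers g) N
  obtain ⟨hq0, hqq0⟩ := FlatDevLoc.isPrime_map_away (T' := Sg) g q hg
  let qg : Ideal Sg := q.map (algebraMap S Sg)
  haveI : qg.IsPrime := hq0
  haveI : qg.LiesOver q := hqq0
  haveI : qg.LiesOver p := Ideal.LiesOver.trans qg q p
  haveI hgfp : Algebra.FinitePresentation S Sg := IsLocalization.Away.finitePresentation g
  haveI : Algebra.FiniteType R Sg := Algebra.FiniteType.trans (S := S) inferInstance inferInstance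
  haveI : Module.Flat S Sg := IsLocalization.flat Sg (Submonoid.powers g)
  have hlg : IsBaseChange Sg lg := (isLocalizedModule_iff_isBaseChange (Submonoid.powers g) Sg lg).1 inferInstance
  haveI : Module.Finite Sg Ng := Module.Finite.equiv hlg.equiv
  haveI : IsScalarTower R Sg Ng := IsScalarTower.to₁₃₄ R S Sg Ng
  have hflat' : FlatCA.FlatAt R qg Ng := (DevEtale.flatAt_iff_of_flat R lg hlg q qg).1 hflat
  obtain ⟨R', S', _, _, _, _, _, _, _, _, p', q', _, _, hR, hS, hover, hG⟩ :=
    FlatEtNhd.exists_good Ng p qg hflat'
  obtain ⟨heS, hq', -⟩ := hS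
  haveI := heS; haveI := hR.1; haveI := hq'
  letI : Algebra S S' := ((algebraMap Sg S').comp (algebraMap S Sg)).toAlgebra
  haveI : IsScalarTower S Sg S' := IsScalarTower.of_algebraMap_eq' rfl
  haveI : IsScalarTower R S S' := IsScalarTower.of_algebraMap_eq fun r => by
    rw [IsScalarTower.algebraMap_apply S Sg S', ← IsScalarTower.algebraMap_apply R S Sg,
      ← IsScalarTower.algebraMap_apply R Sg S']
  haveI : Algebra.Etale S Sg := Algebra.Etale.of_isLocalizationAway g
  haveI : Algebra.Etale S S' := Algebra.Etale.comp S Sg S'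
  have hG' : FlatEtNhd.Good R' p' S S' N := by
    intro C _ _ _ _ _ _ _ _ _ M _ _ _ _ _ _ f hf
    letI : Algebra Sg C := ((algebraMap S' C).comp (algebraMap Sg S')).toAlgebra
    haveI : IsScalarTower Sg S' C := IsScalarTower.of_algebraMap_eq' rfl
    haveI : IsScalarTower S Sg C := IsScalarTower.of_algebraMap_eq fun s => by
      rw [IsScalarTower.algebraMap_apply Sg S' C, ← IsScalarTower.algebraMap_apply S Sg S',
        ← IsScalarTower.algebraMap_apply S S' C]
    letI : Module Sg M := Module.compHom M (algebraMap Sg C)
    haveI : IsScalarTower Sg C M := IsScalarTower.of_algebraMap_smul fun _ _ => rfl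
    haveI : IsScalarTower S Sg M := IsScalarTower.to₁₂₄ S Sg C M
    let a : Ng →ₗ[Sg] M := hlg.lift f
    have ha : IsBaseChange C a := IsBaseChange.of_comp hlg (by
      rw [show ((a.restrictScalars S) ∘ₗ lg) = f from LinearMap.ext fun n => hlg.lift_eq f n]; exact hf)
    exact hG C M a ha
  refine ⟨R', inferInstance, inferInstance, p', inferInstance, hR, fun SA NA _ _ _ _ _ _ _ _ _ _ _ _ _ f hf => ?_⟩
  let A := Localization.AtPrime p'
  obtain ⟨C, _, _, _, _, _, _, hC, -, hfree, hunit, hlift⟩ :=
    exists_etale_model_unit (R := R) p' hG' SA NA f hf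
  haveI := hC
  obtain ⟨xC, hxC, hxq, hxm⟩ := hlift q' inferInstance hover
  haveI := hxC
  haveI : Algebra.FiniteType A SA := FlatEtOpen.finiteType_of_isPushout (R := R) (A := A) (S := S) (SA := SA)
  haveI := FlatEtOpen.finite_of_isBaseChange hf
  haveI : Algebra.FiniteType A C := Algebra.FiniteType.trans (S := SA) inferInstance inferInstance
  let M := C ⊗[SA] NA
  let eM : RestrictScalars A C M ≃ₗ[A] M :=
    { RestrictScalars.addEquiv A C M with map_smul' := fun a m => IsScalarTower.algebraMap_smul C a _ }
  haveI := hfree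
  haveI : Module.Free A M := Module.Free.of_equiv eM
  obtain ⟨t, ht, hui⟩ := FlatEtOpen.exists_finset_primes (A := A) (C := C) M
  obtain ⟨c, hcx, hct, hsub⟩ := FlatEtOpen.exists_basic_avoiding (SA := SA) t ht xC
  let x := xC.comap (algebraMap SA C)
  haveI : x.IsPrime := Ideal.IsPrime.comap _
  have hxS : x.comap (algebraMap S SA) = q := by
    rw [Ideal.comap_comap, ← IsScalarTower.algebraMap_eq, hxq, IsScalarTower.algebraMap_eq S Sg S',
      ← Ideal.comap_comap, show q'.comap (algebraMap Sg S') = qg from hq'.over.symm]
    exact hqq0.over.symm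
  have hxA : x.comap (algebraMap A SA) = maximalIdeal A := by
    rw [Ideal.comap_comap, ← IsScalarTower.algebraMap_eq]
    exact hxm.over.symm
  refine ⟨c, x, inferInstance, hcx, hxS, hxA, ?_⟩
  let B := Localization.Away c
  let L := LocalizedModule (Submonoid.powers c) NA
  haveI : Module.Projective A (B ⊗[SA] NA) := FlatEtOpen.projective_of_image NA c hsub (hui _ hct) B
  haveI : Algebra.FiniteType SA B :=
    haveI := IsLocalization.Away.finitePresentation (S := B) c
    inferInstance
  haveI : Algebra.FiniteType A B := Algebra.FiniteType.trans (S := SA) inferInstance inferInstance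
  haveI : Module.Free A (B ⊗[SA] NA) :=
    CAlgUI.free_of_countablyGenerated (FlatEtOpen.countablyGenerated_of_finiteType B _)
  let eL : L ≃ₗ[A] B ⊗[SA] NA := (LocalizedModule.equivTensorProduct (Submonoid.powers c) NA).restrictScalars A
  haveI hfreeL : Module.Free A L := Module.Free.of_equiv eL.symm
  refine ⟨hfreeL, fun s hs => ?_⟩
  obtain ⟨⟨e⟩, hres, hover'⟩ := exists_residue_equiv p p' hR
  -- `g` is invertible on the basic open
  have hcg : ∃ (j : ℕ) (a : SA), algebraMap S SA g * a = c ^ j := by
    have hu : IsUnit (algebraMap S C g) := hunit g (by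
      rw [IsScalarTower.algebraMap_apply S Sg S']
      exact (IsLocalization.Away.algebraMap_isUnit g).map _)
    have hrad : c ∈ (Ideal.span {algebraMap S SA g}).radical := by
      rw [Ideal.radical_eq_sInf, Ideal.mem_sInf]
      rintro P ⟨hgP, hP⟩
      by_contra hcP
      obtain ⟨Q, hQ⟩ := hsub (show (⟨P, hP⟩ : PrimeSpectrum SA) ∈ PrimeSpectrum.basicOpen c from hcP)
      have hmem : algebraMap S SA g ∈ (PrimeSpectrum.comap (algebraMap SA C) Q).asIdeal := by
        rw [hQ]
        exact hgP (Ideal.mem_span_singleton_self _)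
      rw [PrimeSpectrum.comap_asIdeal, Ideal.mem_comap, ← IsScalarTower.algebraMap_apply] at hmem
      exact Q.isPrime.ne_top (Ideal.eq_top_of_isUnit_mem _ hmem hu)
    obtain ⟨j, hj⟩ := hrad
    obtain ⟨a, ha⟩ := Ideal.mem_span_singleton'.1 hj
    exact ⟨j, a, by rw [mul_comm, ha]⟩
  have hinj := injective_lsmul f hf p e hres x (Ideal.map_le_iff_le_comap.2 hxA.ge)
    (by rw [IsScalarTower.algebraMap_eq R A SA, ← Ideal.comap_comap, hxA]; exact hover')
    q hxS hK (L := L) c hcx hcg (LocalizedModule.mkLinearMap (Submonoid.powers c) NA) s hs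
  intro Q _ _
  exact Groth.Agent.S0448.result _ ((LinearMap.lTensor_inj_iff_rTensor_inj _ _).2 hinj) Q

end Groth.Agent.FlatML
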