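import Mathlib

/-! An element killing the part of a fibre which vanishes at a point. -/

set_option autoImplicit false
set_option backward.isDefEq.respectTransparency false
set_option linter.style.haveILetI false

universe u

noncomputable section

open TensorProduct

namespace Groth.Agent.FlatML

theorem exists_kill_noetherian {S T M : Type u} [CommRing S] [CommRing T] [Algebra S T] [IsNoetherianRing T]
    [AddCommGroup M] [Module T M] [Module S M] [IsScalarTower S T M] [Module.Finite T M] (q : Ideal S) [q.IsPrime] :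
    ∃ g ∉ q, ∀ h ∉ q, ∀ z : M, h • z = 0 → g • z = 0 := by
  classical
  let K : Submodule T M :=
    { carrier := {z | ∃ h ∉ q, h • z = 0}
      zero_mem' := ⟨1, q.one_notMem, smul_zero _⟩
      add_mem' := fun {x y} ⟨h, hh, hx⟩ ⟨k, hk, hy⟩ => ⟨h * k, fun e => (‹q.IsPrime›.mem_or_mem e).elim hh hk, by
        rw [smul_add, mul_comm h k, mul_smul, hx, smul_zero, zero_add, mul_comm k h, mul_smul, hy, smul_zero]⟩
      smul_mem' := fun t x ⟨h, hh, hx⟩ => ⟨h, hh, by rw [smul_comm, hx, smul_zero]⟩ }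
  obtain ⟨s, hs⟩ := IsNoetherian.noetherian K
  have hmem : ∀ z ∈ s, ∃ h ∉ q, h • z = 0 := fun z hz => (hs ▸ Submodule.subset_span hz : z ∈ K)
  choose! h hh hz using hmem
  refine ⟨∏ z ∈ s, h z, fun e => ?_, fun k hk z hkz => ?_⟩
  · obtain ⟨z, hzs, hzq⟩ := ‹q.IsPrime›.prod_mem_iff.1 e
    exact hh z hzs hzq
  · have h1 : z ∈ Submodule.span T (s : Set M) := hs ▸ (⟨k, hk, hkz⟩ : z ∈ K)
    clear hkz hk k
    induction h1 using Submodule.span_induction with
    | mem x hx =>
      obtain ⟨c, hc⟩ := Finset.dvd_prod_of_mem h hx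
      rw [hc, mul_comm, mul_smul, hz x hx, smul_zero]
    | zero => exact smul_zero _
    | add x y _ _ ihx ihy => rw [smul_add, ihx, ihy, add_zero]
    | smul t x _ ih => rw [smul_comm, ih, smul_zero]

/-- Some element outside of `q` kills everything in the fibre over `p` killed by an element outside of `q`. -/
theorem exists_kill {R S N : Type u} [CommRing R] [CommRing S] [Algebra R S] [Algebra.FiniteType R S]
    [AddCommGroup N] [Module S N] [Module R N] [IsScalarTower R S N] [Module.Finite S N]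
    (p : Ideal R) [p.IsPrime] (q : Ideal S) [q.IsPrime] :
    ∃ g ∉ q, ∀ h ∉ q, ∀ z : N ⊗[R] p.ResidueField, h • z = 0 → g • z = 0 := by
  let κ := p.ResidueField
  let T := S ⊗[R] κ
  haveI : IsNoetherianRing (κ ⊗[R] S) := Algebra.FiniteType.isNoetherianRing κ (κ ⊗[R] S)
  haveI : IsNoetherianRing T := isNoetherianRing_of_ringEquiv (κ ⊗[R] S) (Algebra.TensorProduct.comm R κ S).toRingEquiv
  let e : T ⊗[S] N ≃ₗ[S] N ⊗[R] κ :=
    TensorProduct.comm S T N ≪≫ₗ AlgebraTensorModule.cancelBaseChange R S S N κ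
  obtain ⟨g, hg, hK⟩ := exists_kill_noetherian (S := S) (T := T) (M := T ⊗[S] N) q
  refine ⟨g, hg, fun h hh z hz => ?_⟩
  obtain ⟨w, rfl⟩ := e.surjective z
  rw [← map_smul, LinearEquiv.map_eq_zero_iff] at hz
  rw [← map_smul, hK h hh w hz, map_zero]

end Groth.Agent.FlatML
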